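import Groth.Agent.S17505
import Groth.Agent.S12002
import Groth.Agent.AVIndex.Isogeny
import Groth.Agent.HilbFib.Basic
import Groth.Agent.Bounded.Family
import Groth.Agent.AbSchCube.Basic
import Groth.Agent.SeesawGen.Rep
import Groth.Agent.H23.Seesaw

/-!
Translation-fixing sets of a line bundle on the geometric fibres of an abelian scheme.
-/

set_option autoImplicit false
set_option backward.isDefEq.respectTransparency false
set_option backward.isDefEq.respectTransparency.types false
set_option linter.style.haveILetI false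
set_option maxHeartbeats 1000000

universe u

open CategoryTheory CategoryTheory.Limits MonoidalCategory CartesianMonoidalCategory MonObj AlgebraicGeometry TopologicalSpace

noncomputable section

namespace Groth.Agent.AbSchExt

section Mul

variable {T T' : Scheme.{u}} (g : T' ⟶ T) (B : Over T) [GrpObj B]

/-- The underlying morphism of a point of the base change. -/
def down {W : Over T'} (x : W ⟶ (Over.pullback g).obj B) : (Over.map g).obj W ⟶ B :=
  Over.homMk (x.left ≫ pullback.fst B.hom g) (by
    show (x.left ≫ pullback.fst B.hom g) ≫ B.hom = W.hom ≫ g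
    rw [Category.assoc, pullback.condition]
    exact (Category.assoc _ _ _).symm.trans (congrArg (· ≫ g) (Over.w x)))

theorem down_mul {W : Over T'} (x y : W ⟶ (Over.pullback g).obj B) :
    letI : GrpObj ((Over.pullback g).obj B) := Functor.grpObjObj
    down g B (x * y) = down g B x * down g B y := by
  letI : GrpObj ((Over.pullback g).obj B) := Functor.grpObjObj
  let e := (Over.mapPullbackAdj g).homEquiv W B
  have he : ∀ z : (Over.map g).obj W ⟶ B, down g B (e z) = z := fun z => by
    apply Over.OverMorphism.ext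
    show (e z).left ≫ pullback.fst B.hom g = z.left
    simp [e, Adjunction.homEquiv_unit]
    exact Category.id_comp _
  have hmul : ∀ a b : (Over.map g).obj W ⟶ B, e (a * b) = e a * e b := fun a b => by
    simp only [e, Adjunction.homEquiv_unit]
    rw [← MonObj.comp_mul]
    exact congrArg ((Over.mapPullbackAdj g).unit.app W ≫ ·) (map_mul (Over.pullback g).homMonoidHom a b)
  obtain ⟨a, rfl⟩ := e.surjective x
  obtain ⟨b, rfl⟩ := e.surjective y
  rw [← hmul, he, he, he]

end Mul

variable {T : Scheme.{u}} (B : Over T) [GrpObj B] [IsProper B.hom] [Flat B.hom]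
  [LocallyOfFinitePresentation B.hom] [GeometricallyIntegral B.hom]

/-- The geometric fibre. -/
abbrev gf {Ω : Type u} [Field Ω] (ū : Spec (CommRingCat.of Ω) ⟶ T) : Over (Spec (CommRingCat.of Ω)) :=
  (Over.pullback ū).obj B

/-- Euler characteristics of geometric fibres agree over a connected base. -/
theorem euler_eq [PreconnectedSpace T] {L : B.left.Modules} (hL : PicF.IsInvertible L)
    {Ω Ω' : Type u} [Field Ω] [Field Ω'] (ū : Spec (CommRingCat.of Ω) ⟶ T) (ū' : Spec (CommRingCat.of Ω') ⟶ T) :
    @Curv2.euler Ω _ (gf B ū).left ⟨(gf B ū).hom⟩ ((Scheme.Modules.pullback (pullback.fst B.hom ū)).obj L) =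
      @Curv2.euler Ω' _ (gf B ū').left ⟨(gf B ū').hom⟩ ((Scheme.Modules.pullback (pullback.fst B.hom ū')).obj L) := by
  have hLq : Coh.IsQCoh L := ProjUPX.isQCoh_of_isInvertible hL
  have key : ∀ {Ω : Type u} [Field Ω] (ū : Spec (CommRingCat.of Ω) ⟶ T) (p : Spec (CommRingCat.of Ω)),
      @Curv2.euler Ω _ (gf B ū).left ⟨(gf B ū).hom⟩ ((Scheme.Modules.pullback (pullback.fst B.hom ū)).obj L) =
        HilbFib.χ B.hom L (ū p) := by
    intro Ω _ ū p
    letI : (gf B ū).left.Over (Spec (CommRingCat.of Ω)) := ⟨(gf B ū).hom⟩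
    haveI : IsProper ((gf B ū).left ↘ Spec (CommRingCat.of Ω)) := inferInstanceAs (IsProper (pullback.snd B.hom ū))
    rw [← Bounded.χ_specField (k := Ω) (QCoh.isQCoh_pullback _ hLq) p]
    exact HilbFib.χ_baseChange (IsPullback.of_hasPullback B.hom ū) hLq p
  rw [key ū (IsLocalRing.closedPoint Ω), key ū' (IsLocalRing.closedPoint Ω')]
  have hlc : IsLocallyConstant fun s : T => HilbFib.χ B.hom L s := by
    have h0 := (HilbFib.isLocallyConstant_χtw B.hom (SeesawGen.isFP_of_isInvertible hL)
      (H23.Seesaw.isFlatOver_of_isInvertible B.hom hL) hL).comp (fun f : ℕ → ℤ => f 0)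
    obtain ⟨e⟩ : Nonempty (HilbFib.tw L L 0 ≅ L) := by
      apply H23.PicMul.cl_eq_iff.1
      open scoped Groth.Agent.H23.PicMul in
      rw [HilbFib.tw, H23.PicMul.cl_tensor, H23.PicMul.cl_tensorPow, pow_zero, _root_.mul_one]
    exact (funext fun s => HilbFib.χ_congr B.hom e s) ▸ h0
  exact hlc.apply_eq_of_preconnectedSpace _ _

/-- Fixing sets are finite on every geometric fibre as soon as one geometric fibre is polarised. -/
theorem finite_fix [PreconnectedSpace T] {L : B.left.Modules} (hL : PicF.IsInvertible L)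
    {Ω₀ : Type u} [Field Ω₀] [IsAlgClosed Ω₀] (ū₀ : Spec (CommRingCat.of Ω₀) ⟶ T)
    (hamp : CohB1.IsAmple ((Scheme.Modules.pullback (pullback.fst B.hom ū₀)).obj L))
    {Ω : Type u} [Field Ω] [IsAlgClosed Ω] (ū : Spec (CommRingCat.of Ω) ⟶ T) :
    letI : GrpObj (gf B ū) := Functor.grpObjObj
    Set.Finite {a : 𝟙_ (Over (Spec (CommRingCat.of Ω))) ⟶ gf B ū |
      Nonempty ((Scheme.Modules.pullback (𝟙 (gf B ū) * (toUnit (gf B ū) ≫ a)).left).obj
        ((Scheme.Modules.pullback (pullback.fst B.hom ū)).obj L) ≅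
        (Scheme.Modules.pullback (pullback.fst B.hom ū)).obj L)} := by
  letI : GrpObj (gf B ū) := Functor.grpObjObj
  letI : GrpObj (gf B ū₀) := Functor.grpObjObj
  haveI : IsProper (gf B ū).hom := inferInstanceAs (IsProper (pullback.snd B.hom ū))
  haveI : GeometricallyIntegral (gf B ū).hom := inferInstanceAs (GeometricallyIntegral (pullback.snd B.hom ū))
  haveI : IsProper (gf B ū₀).hom := inferInstanceAs (IsProper (pullback.snd B.hom ū₀))
  haveI : GeometricallyIntegral (gf B ū₀).hom := inferInstanceAs (GeometricallyIntegral (pullback.snd B.hom ū₀))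
  have hLi : ∀ {Ω : Type u} [Field Ω] (v : Spec (CommRingCat.of Ω) ⟶ T),
      PicF.IsInvertible ((Scheme.Modules.pullback (pullback.fst B.hom v)).obj L) := fun v =>
    PicClLib.isInvertible_pullback _ hL
  by_contra hinf
  have h0 := S17505.result Ω (gf B ū) _ (hLi ū) hinf
  rw [euler_eq B hL ū ū₀] at h0
  exact AVIndex.euler_ne_zero (A := gf B ū₀) (hLi ū₀) ((S12002.result Ω₀ (gf B ū₀) _ hamp).subset fun x hx => H23.PicMul.cl_eq_iff.1 hx) h0

end Groth.Agent.AbSchExt
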