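import Groth.Agent.AbSchExt.Locus
import Groth.Agent.Lib.AVProj
import Groth.Agent.FibIso.Dvr
import Groth.Agent.H23.RedSub
import Groth.Agent.H23.TrivBasic
import Mathlib.AlgebraicGeometry.Morphisms.QuasiFinite

/-!
The closure of a section over an open is finite over a regular affine base.
-/

set_option autoImplicit false
set_option backward.isDefEq.respectTransparency false
set_option backward.isDefEq.respectTransparency.types false
set_option linter.style.haveILetI false
set_option maxHeartbeats 1000000

universe u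

open CategoryTheory CategoryTheory.Limits MonoidalCategory CartesianMonoidalCategory MonObj AlgebraicGeometry TopologicalSpace Topology
open scoped Groth.Agent.H23.PicMul

noncomputable section

namespace Groth.Agent.AbSchExt

open Groth.Agent.H23

theorem exists_lift_closed {X Y K : Scheme.{u}} [IsReduced K] (j : X ⟶ Y) [IsClosedImmersion j] (v : K ⟶ Y)
    (h : Set.range v ⊆ Set.range j) : ∃ z : K ⟶ X, z ≫ j = v := by
  haveI : Surjective (pullback.snd j v) := by
    refine ⟨fun q => ?_⟩
    obtain ⟨p, hp⟩ := h ⟨q, rfl⟩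
    obtain ⟨r, -, hr⟩ := Scheme.Pullback.exists_preimage_pullback p q hp
    exact ⟨r, hr⟩
  haveI := isIso_of_isClosedImmersion_of_surjective (pullback.snd j v)
  exact ⟨inv (pullback.snd j v) ≫ pullback.fst j v, by rw [Category.assoc, pullback.condition, IsIso.inv_hom_id_assoc]⟩

theorem tr_comp {T : Scheme.{u}} {G : Over T} [GrpObj G] (x y : 𝟙_ (Over T) ⟶ G) :
    (𝟙 G * (toUnit G ≫ x)) ≫ (𝟙 G * (toUnit G ≫ y)) = 𝟙 G * (toUnit G ≫ (x * y)) := by
  rw [MonObj.comp_mul, Category.comp_id, ← Category.assoc,
    toUnit_unique ((𝟙 G * (toUnit G ≫ x)) ≫ toUnit G) (toUnit G), MonObj.comp_mul, _root_.mul_assoc]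

theorem finite_iso_const {Ω : Type u} [Field Ω] (G : Over (Spec (CommRingCat.of Ω))) [GrpObj G]
    (L M : G.left.Modules)
    (hfin : Set.Finite {a : 𝟙_ (Over (Spec (CommRingCat.of Ω))) ⟶ G |
      Nonempty ((Scheme.Modules.pullback (𝟙 G * (toUnit G ≫ a)).left).obj L ≅ L)}) :
    Set.Finite {a : 𝟙_ (Over (Spec (CommRingCat.of Ω))) ⟶ G |
      Nonempty ((Scheme.Modules.pullback (𝟙 G * (toUnit G ≫ a)).left).obj L ≅ M)} := by
  by_cases hne : {a : 𝟙_ (Over (Spec (CommRingCat.of Ω))) ⟶ G |
      Nonempty ((Scheme.Modules.pullback (𝟙 G * (toUnit G ≫ a)).left).obj L ≅ M)} = ∅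
  · rw [hne]; exact Set.finite_empty
  obtain ⟨b, ⟨eb⟩⟩ := Set.nonempty_iff_ne_empty.2 hne
  refine Set.Finite.of_finite_image (f := fun a => b⁻¹ * a) (hfin.subset ?_)
    (fun x _ y _ h => mul_left_cancel h)
  rintro _ ⟨a, ⟨ea⟩, rfl⟩
  refine PicMul.cl_eq_iff.1 ?_
  let t : (𝟙_ (Over (Spec (CommRingCat.of Ω))) ⟶ G) → (G ⟶ G) := fun x => 𝟙 G * (toUnit G ≫ x)
  show PicF.pullCl (t (b⁻¹ * a)).left (PicF.cl L) = PicF.cl L
  have h1 : PicF.pullCl (t a).left (PicF.cl L) = PicF.pullCl (t b).left (PicF.cl L) :=
    (PicMul.cl_eq_iff.2 ⟨ea⟩).trans (PicMul.cl_eq_iff.2 ⟨eb⟩).symm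
  have h2 := congrArg (PicF.pullCl (t b⁻¹).left) h1
  rw [PicClLib.pullCl_comp, PicClLib.pullCl_comp, ← Over.comp_left, ← Over.comp_left, tr_comp, tr_comp,
    _root_.inv_mul_cancel] at h2
  rw [h2, MonObj.comp_one, _root_.mul_one, Over.id_left, PicClLib.pullCl_id]

variable (R : CommRingCat.{u}) [IsDomain R] [IsNoetherianRing R] [IsRegularRing R]
  (B : Over (Spec R)) [GrpObj B] [IsProper B.hom] [Smooth B.hom] [GeometricallyIntegral B.hom]

theorem isRegular_total (x : B.left) : IsRegularLocalRing (B.left.presheaf.stalk x) :=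
  FibIso.isRegularLocalRing_stalk_of_smooth (R := R) B.hom x

theorem isIntegral_total : IsIntegral B.left := by
  haveI : IsReduced B.left := by
    have : ∀ x : B.left, _root_.IsReduced (B.left.presheaf.stalk x) := fun x => by
      haveI := isRegular_total R B x
      haveI := (S2821.result (B.left.presheaf.stalk x)).1
      infer_instance
    exact isReduced_of_isReduced_stalk B.left
  haveI : IrreducibleSpace B.left := by
    haveI : IrreducibleSpace (Spec R) := inferInstance
    let sec₀ : (Spec R : Scheme.{u}) ⟶ B.left := (η[B]).left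
    have h : IsIrreducible (B.hom ⁻¹' (Set.univ : Set (Spec R))) := by
      refine (IrreducibleSpace.isIrreducible_univ _).preimage_of_isPreirreducible_fiber B.hom B.hom.isOpenMap
        (fun t => ?_) ⟨B.hom (sec₀ (Classical.arbitrary (Spec R : Scheme.{u}))), trivial, _, rfl⟩
      haveI : IsIntegral (B.hom.fiber t) :=
        GeometricallyIntegral.isIntegral_of_subsingleton (B.hom.fiberToSpecResidueField t)
      rw [← Scheme.Hom.range_fiberι, ← Set.image_univ]
      exact ((IrreducibleSpace.isIrreducible_univ _).image _ (B.hom.fiberι t).continuous.continuousOn).2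
    rw [Set.preimage_univ] at h
    exact { isPreirreducible_univ := h.2, toNonempty := h.1.to_subtype.map Subtype.val }
  exact isIntegral_of_irreducibleSpace_of_isReduced B.left

/-- The closure of a section over an open is finite over the base. -/
theorem isFinite_closure (U : (Spec R).Opens) (s : (U : Scheme.{u}) ⟶ B.left) (hs : s ≫ B.hom = U.ι) :
    IsFinite ((Scheme.IdealSheafData.vanishingIdeal ⟨closure (Set.range s), isClosed_closure⟩).subschemeι ≫ B.hom) := by
  haveI : IsIntegral B.left := isIntegral_total R B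
  haveI : IsLocallyNoetherian B.left := LocallyOfFiniteType.isLocallyNoetherian B.hom
  haveI : CompactSpace B.left := QuasiCompact.compactSpace_of_compactSpace B.hom
  haveI : IsNoetherian B.left := { }
  haveI : B.left.IsSeparated := ⟨by
    rw [← Limits.terminal.comp_from B.hom]
    infer_instance⟩
  -- a line bundle ample on one geometric fibre
  obtain ⟨W, hW, hxW, -⟩ := exists_isAffineOpen_mem_and_subset (x := genericPoint B.left) (U := ⊤) trivial
  obtain ⟨D, hD, hsupp⟩ := EffCompl.exists_effCartier_compl B.left (fun V V' hV hV' => hV.inf hV') W hW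
    (W.isOpen.dense ⟨_, hxW⟩) fun y _ => by
      haveI := isRegular_total R B y
      exact S2821.result _
  obtain ⟨L, hL, hLI⟩ := PicInv.exists_inverse ((S8914.result D).2 hD)
  have hLI' : ClSub.IsInverseOf L (ClSub.idealMod D) := ⟨(PicMul.comm _ _).some ≪≫ hLI.some⟩
  obtain ⟨sec, hsec⟩ := AVAmple.exists_divisor_section D hD hL hLI'
  have hloc : TrivBasic.locus sec = W := by
    refine Opens.ext (Set.ext fun y => ?_)
    rw [SetLike.mem_coe, hsec y, ← SetLike.mem_coe, hsupp]
    exact not_not
  let η₀ : Spec R := genericPoint (Spec R)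
  obtain ⟨w, hwW, hwη⟩ : η₀ ∈ B.hom '' (W : Set B.left) :=
    (genericPoint_spec (Spec R)).mem_open_set_iff (B.hom.isOpenMap _ W.isOpen) |>.2
      (by simpa using (Set.Nonempty.image B.hom ⟨_, hxW⟩ : (B.hom '' (W : Set B.left)).Nonempty))
  let Ω₀ := AlgebraicClosure ((Spec R).residueField η₀)
  let ū₀ : Spec (CommRingCat.of Ω₀) ⟶ Spec R :=
    Spec.map (CommRingCat.ofHom (algebraMap ((Spec R).residueField η₀) Ω₀)) ≫ (Spec R).fromSpecResidueField η₀
  have hamp : CohB1.IsAmple ((Scheme.Modules.pullback (pullback.fst B.hom ū₀)).obj L) := by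
    letI : GrpObj (gf B ū₀) := Functor.grpObjObj
    haveI : IsProper (gf B ū₀).hom := inferInstanceAs (IsProper (pullback.snd B.hom ū₀))
    haveI : GeometricallyIntegral (gf B ū₀).hom := inferInstanceAs (GeometricallyIntegral (pullback.snd B.hom ū₀))
    haveI : IsAffineHom ū₀ := isAffineHom_of_isAffine ū₀
    let π : (gf B ū₀).left ⟶ B.left := pullback.fst B.hom ū₀
    haveI : IsAffineHom π := MorphismProperty.pullback_fst (P := @IsAffineHom) B.hom ū₀ inferInstance
    let sec' : Γ((Scheme.Modules.pullback π).obj L, ⊤) := InvX.pullElt π sec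
    have hloc' : TrivBasic.locus sec' = π ⁻¹ᵁ W := hloc ▸ TrivBasic.locus_pullElt hL π sec
    obtain ⟨y, hy, -⟩ := Scheme.Pullback.exists_preimage_pullback (f := B.hom) (g := ū₀) w
      (IsLocalRing.closedPoint Ω₀) (by
        rw [hwη]
        show η₀ = (Spec R).fromSpecResidueField η₀ _
        rw [Scheme.fromSpecResidueField_apply])
    have hy' : y ∈ TrivBasic.locus sec' := by rw [hloc']; show π y ∈ W; rw [show π y = w from hy]; exact hwW
    exact AVProj.isAmple_of_affine_locus (A := gf B ū₀) (PicClLib.isInvertible_pullback π hL)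
      (AVProj.ne_zero_of_mem_locus hy') (hloc' ▸ hW.preimage π)
  obtain ⟨Z, jZ, hjZ, ⟨s', hs'⟩, hZ⟩ := exists_locus B (isRegular_total R B) L hL U s hs
  let C : Closeds B.left := ⟨closure (Set.range s), isClosed_closure⟩
  have hCZ : (C : Set B.left) ⊆ Set.range jZ := by
    refine closure_minimal ?_ jZ.isClosedEmbedding.isClosed_range
    rintro _ ⟨q, rfl⟩
    exact ⟨s' q, by rw [← Scheme.Hom.comp_apply, hs']⟩
  let h := (Scheme.IdealSheafData.vanishingIdeal C).subschemeι
  haveI : IsProper (h ≫ B.hom) := inferInstance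
  have hrange : Set.range h = (C : Set B.left) := RedSub.range_vanishingIdeal C
  haveI : LocallyQuasiFinite (h ≫ B.hom) := by
    refine locallyQuasiFinite_iff_finite_preimage_singleton.2 fun t => ?_
    let Ω := AlgebraicClosure ((Spec R).residueField t)
    let ū : Spec (CommRingCat.of Ω) ⟶ Spec R :=
      Spec.map (CommRingCat.ofHom (algebraMap ((Spec R).residueField t) Ω)) ≫ (Spec R).fromSpecResidueField t
    letI : GrpObj (gf B ū) := Functor.grpObjObj
    haveI : IsProper (gf B ū).hom := inferInstanceAs (IsProper (pullback.snd B.hom ū))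
    haveI : GeometricallyIntegral (gf B ū).hom := inferInstanceAs (GeometricallyIntegral (pullback.snd B.hom ū))
    haveI : JacobsonSpace (gf B ū).left := LocallyOfFiniteType.jacobsonSpace (gf B ū).hom
    let π : (gf B ū).left ⟶ B.left := pullback.fst B.hom ū
    obtain ⟨M, hM⟩ := hZ Ω ū
    let S : Set (gf B ū).left := π ⁻¹' (C : Set B.left)
    have hS : IsClosed S := C.isClosed.preimage π.continuous
    have hfin := finite_iso_const (gf B ū) _ M (finite_fix B hL ū₀ hamp ū)
    have hclfin : Set.Finite (S ∩ closedPoints (gf B ū).left) := by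
      refine (hfin.image (fun a => AVAmple.pt a)).subset fun q ⟨hqS, hqc⟩ => ?_
      obtain ⟨a, ha⟩ := AVAmple.exists_pt (mem_closedPoints_iff.1 hqc)
      haveI : AlgebraicGeometry.IsReduced (𝟙_ (Over (Spec (CommRingCat.of Ω)))).left := inferInstanceAs (AlgebraicGeometry.IsReduced (Spec (CommRingCat.of Ω)))
      refine ⟨a, hM a (exists_lift_closed jZ (a.left ≫ π) ?_), ha⟩
      rintro _ ⟨p, rfl⟩
      refine hCZ ?_
      rw [Scheme.Hom.comp_apply, show a.left p = q from by
        rw [Subsingleton.elim (α := PrimeSpectrum Ω) p (IsLocalRing.closedPoint Ω)]; exact ha]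
      exact hqS
    have hSfin : S.Finite := by
      have hcl : IsClosed (S ∩ closedPoints (gf B ū).left) := by
        rw [← Set.biUnion_of_singleton (S ∩ closedPoints (gf B ū).left)]
        exact hclfin.isClosed_biUnion fun q hq => mem_closedPoints_iff.1 hq.2
      have := JacobsonSpace.closure_inter_closedPoints hS
      rw [hcl.closure_eq] at this
      exact this ▸ hclfin
    have hinj : Function.Injective h := h.isClosedEmbedding.injective
    refine ((hSfin.image π).preimage hinj.injOn).subset fun q hq => ?_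
    obtain ⟨y, hy, -⟩ := Scheme.Pullback.exists_preimage_pullback (f := B.hom) (g := ū) (h q)
      (IsLocalRing.closedPoint Ω) (by
        rw [← Scheme.Hom.comp_apply, hq]
        show t = (Spec R).fromSpecResidueField t _
        rw [Scheme.fromSpecResidueField_apply])
    refine ⟨y, ?_, hy⟩
    show π y ∈ (C : Set B.left)
    rw [show π y = h q from hy, ← hrange]
    exact ⟨q, rfl⟩
  exact IsFinite.of_isProper_of_locallyQuasiFinite _

end Groth.Agent.AbSchExt
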