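import Groth.Agent.AbSchExt.Fibre
import Groth.Agent.SeesawSub.Glue
import Groth.Agent.S7887
import Groth.Agent.H23.PicInv
import Groth.Agent.Lib.AVAmple

/-!
A closed locus with finite fibres containing a given section over an open.
-/

set_option autoImplicit false
set_option backward.isDefEq.respectTransparency false
set_option backward.isDefEq.respectTransparency.types false
set_option linter.style.haveILetI false
set_option maxHeartbeats 1000000

universe u

open CategoryTheory CategoryTheory.Limits MonoidalCategory CartesianMonoidalCategory MonObj AlgebraicGeometry TopologicalSpace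
open scoped Groth.Agent.H23.PicMul

noncomputable section

namespace Groth.Agent.AbSchExt

open Groth.Agent.H23

variable {T : Scheme.{u}} (B : Over T) [GrpObj B] [IsProper B.hom] [Flat B.hom]
  [LocallyOfFinitePresentation B.hom] [GeometricallyIntegral B.hom] [IsNoetherian B.left] [ConnectedSpace B.left]

/-- A closed set containing the section, with fibres over geometric points contained in a coset of a fixing set. -/
theorem exists_locus (hreg : ∀ x : B.left, IsRegularLocalRing (B.left.presheaf.stalk x))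
    (L : B.left.Modules) (hL : PicF.IsInvertible L)
    (U : T.Opens) (s : (U : Scheme.{u}) ⟶ B.left) (hs : s ≫ B.hom = U.ι) :
    ∃ (Z : Scheme.{u}) (jZ : Z ⟶ B.left), IsClosedImmersion jZ ∧ (∃ s' : (U : Scheme.{u}) ⟶ Z, s' ≫ jZ = s) ∧
      ∀ (Ω : Type u) [Field Ω] (ū : Spec (CommRingCat.of Ω) ⟶ T),
        letI : GrpObj (gf B ū) := Functor.grpObjObj
        ∃ M : (gf B ū).left.Modules, ∀ a : 𝟙_ (Over (Spec (CommRingCat.of Ω))) ⟶ gf B ū,
          (∃ z : Spec (CommRingCat.of Ω) ⟶ Z, z ≫ jZ = a.left ≫ pullback.fst B.hom ū) →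
          Nonempty ((Scheme.Modules.pullback (𝟙 (gf B ū) * (toUnit (gf B ū) ≫ a)).left).obj
            ((Scheme.Modules.pullback (pullback.fst B.hom ū)).obj L) ≅ M) := by
  let O := B.hom ⁻¹ᵁ U
  let W : Over T := Over.mk (O.ι ≫ B.hom)
  let e : W ⟶ B := Over.homMk O.ι rfl
  let st : W ⟶ B := Over.homMk ((B.hom ∣_ U) ≫ s) (by
    show ((B.hom ∣_ U) ≫ s) ≫ B.hom = O.ι ≫ B.hom
    rw [Category.assoc, hs]
    exact morphismRestrict_ι _ _)
  let σ := e * st
  obtain ⟨M₀, hM₀, ⟨eM⟩⟩ := S7887.result B.left hreg O ((Scheme.Modules.pullback σ.left).obj L)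
    (PicClLib.isInvertible_pullback _ hL)
  obtain ⟨N, hN, ⟨eN⟩⟩ := PicInv.exists_inverse hM₀
  have hM₀N : PicF.cl M₀ * PicF.cl N = 1 := by
    rw [← PicMul.cl_tensor, PicMul.one_def]; exact PicMul.cl_eq_iff.2 ⟨eN⟩
  let m : B ⊗ B ⟶ B := fst B B * snd B B
  let Θ := CohB1.tensorMod ((Scheme.Modules.pullback m.left).obj L) ((Scheme.Modules.pullback (fst B B).left).obj N)
  have hΘ : PicF.IsInvertible Θ :=
    PicMul.isInvertible_tensor (PicClLib.isInvertible_pullback _ hL) (PicClLib.isInvertible_pullback _ hN)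
  have hΘcl : PicF.cl Θ = PicF.pullCl m.left (PicF.cl L) * PicF.pullCl (fst B B).left (PicF.cl N) :=
    PicMul.cl_tensor _ _
  let f : (B ⊗ B).left ⟶ B.left := (snd B B).left
  haveI : IsProper f := inferInstanceAs (IsProper (pullback.snd B.hom B.hom))
  haveI : Flat f := inferInstanceAs (Flat (pullback.snd B.hom B.hom))
  haveI : GeometricallyIntegral f := inferInstanceAs (GeometricallyIntegral (pullback.snd B.hom B.hom))
  obtain ⟨Z, jZ, hjZ, hZ⟩ := SeesawSub.exists_seesawSubscheme f Θ hΘ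
  refine ⟨Z, jZ, hjZ, (hZ _ s).2 ?_, fun Ω _ ū => ?_⟩
  · intro t
    refine ⟨⊤, trivial, ?_⟩
    let u₀ := (⊤ : (U : Scheme.{u}).Opens).ι ≫ s
    let Q : Over T := Over.mk (pullback.fst f u₀ ≫ (B ⊗ B).hom)
    let q : Q ⟶ B ⊗ B := Over.homMk (pullback.fst f u₀) rfl
    let π := pullback.snd f u₀ ≫ (⊤ : (U : Scheme.{u}).Opens).ι
    have hsnd : (q ≫ snd B B).left = π ≫ s :=
      (pullback.condition (f := f) (g := u₀)).trans (Category.assoc _ _ _).symm
    have hx : (q ≫ fst B B).left ≫ B.hom = π ≫ U.ι := by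
      rw [Over.w (q ≫ fst B B), ← Over.w (q ≫ snd B B), hsnd, Category.assoc, hs]
    have hr : Set.range (q ≫ fst B B).left ⊆ Set.range O.ι := by
      rw [Scheme.Opens.range_ι]
      rintro _ ⟨z, rfl⟩
      show B.hom ((q ≫ fst B B).left z) ∈ U
      rw [← Scheme.Hom.comp_apply, hx, Scheme.Hom.comp_apply]
      exact (π z).2
    obtain ⟨l₀, hl₀⟩ : ∃ l₀ : Q.left ⟶ (O : Scheme.{u}), l₀ ≫ O.ι = (q ≫ fst B B).left :=
      ⟨IsOpenImmersion.lift _ _ hr, IsOpenImmersion.lift_fac _ _ _⟩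
    let l : Q ⟶ W := Over.homMk l₀ (by
      show l₀ ≫ O.ι ≫ B.hom = Q.hom
      rw [reassoc_of% hl₀]
      exact Over.w (q ≫ fst B B))
    have hle : l ≫ e = q ≫ fst B B := Over.OverMorphism.ext hl₀
    have hls : l ≫ st = q ≫ snd B B := by
      apply Over.OverMorphism.ext
      show l₀ ≫ (B.hom ∣_ U) ≫ s = (q ≫ snd B B).left
      rw [hsnd, ← Category.assoc]
      congr 1
      rw [← cancel_mono U.ι, Category.assoc, morphismRestrict_ι, reassoc_of% hl₀, hx]
    have hqm : q ≫ m = l ≫ σ := by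
      simp only [m, σ, MonObj.comp_mul, hle, hls]
    show Nonempty ((Scheme.Modules.pullback q.left).obj Θ ≅ Coh.structureModule _)
    refine (PicGrp.cl_eq_cl_iff _ _).1 ?_
    show PicF.pullCl q.left (PicF.cl Θ) = _
    rw [hΘcl, PicMul.pullCl_mul, PicClLib.pullCl_comp, PicClLib.pullCl_comp, ← Over.comp_left, ← Over.comp_left,
      hqm, Over.comp_left]
    show PicF.pullCl (l₀ ≫ σ.left) (PicF.cl L) * PicF.pullCl (q ≫ fst B B).left (PicF.cl N) = _
    rw [← hl₀, ← PicClLib.pullCl_comp, ← PicClLib.pullCl_comp]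
    have hM : PicF.pullCl O.ι (PicF.cl M₀) = PicF.pullCl σ.left (PicF.cl L) :=
      PicMul.cl_eq_iff.2 ⟨((Scheme.Modules.restrictFunctorIsoPullback O.ι).app M₀).symm ≪≫ eM⟩
    erw [← hM]
    rw [← PicMul.pullCl_mul, ← PicMul.pullCl_mul, hM₀N, PicMul.pullCl_one, PicMul.pullCl_one, PicMul.one_def]
  · letI : GrpObj (gf B ū) := Functor.grpObjObj
    let π : (gf B ū).left ⟶ B.left := pullback.fst B.hom ū
    refine ⟨(Scheme.Modules.pullback π).obj M₀, fun a ⟨z, hz⟩ => ?_⟩
    let u := a.left ≫ π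
    have htr : SeesawSub.RelTriv f Θ u := (hZ _ u).1 ⟨z, hz⟩
    obtain ⟨V, hV, ⟨φ⟩⟩ := htr (IsLocalRing.closedPoint Ω)
    let G := gf B ū
    let W' : Over T := (Over.map ū).obj G
    let p : W' ⟶ B := down ū B (𝟙 G)
    let c : W' ⟶ B := down ū B (toUnit G ≫ a)
    have hVtop : V = ⊤ := by
      ext x
      simp only [Opens.coe_top, Set.mem_univ, iff_true]
      exact (Subsingleton.elim (α := PrimeSpectrum Ω) x (IsLocalRing.closedPoint Ω)).symm ▸ hV
    subst hVtop
    let n : G.left ⟶ ((⊤ : (Spec (CommRingCat.of Ω)).Opens) : Scheme.{u}) :=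
      G.hom ≫ (Scheme.topIso _).inv
    have hn : n ≫ (⊤ : (Spec (CommRingCat.of Ω)).Opens).ι = G.hom := by
      simp [n, Category.assoc]
    let g : G.left ⟶ pullback f ((⊤ : (Spec (CommRingCat.of Ω)).Opens).ι ≫ u) :=
      pullback.lift (lift p c).left n (by
        show (lift p c).left ≫ (snd B B).left = _
        rw [← Over.comp_left, lift_snd, reassoc_of% hn]
        show ((toUnit G).left ≫ a.left) ≫ pullback.fst B.hom ū = _
        rw [Over.toUnit_left]
        exact Category.assoc _ _ _)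
    have hg : g ≫ pullback.fst f _ = (lift p c).left := pullback.lift_fst _ _ _
    have h1 : PicF.pullCl g (PicF.pullCl (pullback.fst f ((⊤ : (Spec (CommRingCat.of Ω)).Opens).ι ≫ u)) (PicF.cl Θ)) = 1 := by
      have : PicF.pullCl (pullback.fst f ((⊤ : (Spec (CommRingCat.of Ω)).Opens).ι ≫ u)) (PicF.cl Θ) = 1 := by
        rw [PicMul.one_def]; exact (PicGrp.cl_eq_cl_iff _ _).2 ⟨φ⟩
      rw [this, PicMul.pullCl_one]
    rw [PicClLib.pullCl_comp, hg, hΘcl, PicMul.pullCl_mul, PicClLib.pullCl_comp, PicClLib.pullCl_comp,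
      ← Over.comp_left, ← Over.comp_left, MonObj.comp_mul, lift_fst, lift_snd] at h1
    have hp : p.left = π := Category.id_comp _
    have hpc : (p * c).left = (𝟙 G * (toUnit G ≫ a)).left ≫ π := by
      rw [← down_mul]
      rfl
    rw [hp, hpc] at h1
    have h2 := congrArg (PicF.pullCl π) hM₀N
    rw [PicMul.pullCl_mul, PicMul.pullCl_one] at h2
    refine PicMul.cl_eq_iff.1 ?_
    show PicF.pullCl (𝟙 G * (toUnit G ≫ a)).left (PicF.pullCl π (PicF.cl L)) = PicF.pullCl π (PicF.cl M₀)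
    rw [PicClLib.pullCl_comp]
    calc PicF.pullCl ((𝟙 G * (toUnit G ≫ a)).left ≫ π) (PicF.cl L)
        = PicF.pullCl ((𝟙 G * (toUnit G ≫ a)).left ≫ π) (PicF.cl L) * 1 := (_root_.mul_one _).symm
      _ = PicF.pullCl ((𝟙 G * (toUnit G ≫ a)).left ≫ π) (PicF.cl L) *
            (PicF.pullCl π (PicF.cl N) * PicF.pullCl π (PicF.cl M₀)) := by rw [_root_.mul_comm (PicF.pullCl π (PicF.cl N)), h2]
      _ = (PicF.pullCl ((𝟙 G * (toUnit G ≫ a)).left ≫ π) (PicF.cl L) *
            PicF.pullCl π (PicF.cl N)) * PicF.pullCl π (PicF.cl M₀) := (_root_.mul_assoc _ _ _).symm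
      _ = PicF.pullCl π (PicF.cl M₀) := by rw [h1, _root_.one_mul]

end Groth.Agent.AbSchExt
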