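import Groth.Agent.AbSchExt.Finite
import Groth.Agent.AlgSpDec.BiratNormal
import Groth.Agent.RefX2.Normality
import Groth.Agent.KRegLib.Regular
import Groth.Agent.GrpSchLib.IsogenyFibre
import Groth.Agent.H23.FinCondSch

/-!
Morphisms from a regular scheme defined on a dense open extend uniquely into abelian schemes.
-/

set_option autoImplicit false
set_option backward.isDefEq.respectTransparency false
set_option backward.isDefEq.respectTransparency.types false
set_option linter.style.haveILetI false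
set_option maxHeartbeats 1000000

universe u

open CategoryTheory CategoryTheory.Limits MonoidalCategory CartesianMonoidalCategory MonObj AlgebraicGeometry TopologicalSpace Topology

noncomputable section

namespace Groth.Agent.AbSchExt

/-- A section over a nonempty open of a regular affine base extends. -/
theorem exists_ext_affine (R : CommRingCat.{u}) [IsDomain R] [IsNoetherianRing R] [IsRegularRing R]
    (B : Over (Spec R)) [GrpObj B] [IsProper B.hom] [Smooth B.hom] [GeometricallyIntegral B.hom]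
    (U : (Spec R).Opens) (hU : (U : Set (Spec R)).Nonempty)
    (s : (U : Scheme.{u}) ⟶ B.left) (hs : s ≫ B.hom = U.ι) :
    ∃ s' : Spec R ⟶ B.left, s' ≫ B.hom = 𝟙 _ ∧ U.ι ≫ s' = s := by
  let C : Closeds B.left := ⟨closure (Set.range s), isClosed_closure⟩
  let G := (Scheme.IdealSheafData.vanishingIdeal C).subscheme
  let ι' : G ⟶ B.left := (Scheme.IdealSheafData.vanishingIdeal C).subschemeι
  let h : G ⟶ Spec R := ι' ≫ B.hom
  haveI : IsFinite h := isFinite_closure R B U s hs
  haveI : IsReduced G := H23.RedSub.isReduced_vanishingIdeal C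
  have hrange : Set.range ι' = (C : Set B.left) := H23.RedSub.range_vanishingIdeal C
  haveI : Nonempty U := hU.to_subtype
  haveI : IsIntegral (U : Scheme.{u}) := isIntegral_of_isOpenImmersion U.ι
  have hirr : IsIrreducible (C : Set B.left) := by
    refine IsIrreducible.closure ?_
    rw [← Set.image_univ]
    exact (IrreducibleSpace.isIrreducible_univ _).image _ s.continuous.continuousOn
  haveI : IrreducibleSpace G := by
    have : IsIrreducible (Set.univ : Set G) := by
      have h0 : IsIrreducible (Set.range ι') := hrange ▸ hirr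
      refine ⟨?_, ?_⟩
      · obtain ⟨_, q, rfl⟩ := h0.1
        exact ⟨q, trivial⟩
      · intro u v hu hv ⟨a, _, ha⟩ ⟨b, _, hb⟩
        obtain ⟨u', hu', rfl⟩ := ι'.isClosedEmbedding.isInducing.isOpen_iff.1 hu
        obtain ⟨v', hv', rfl⟩ := ι'.isClosedEmbedding.isInducing.isOpen_iff.1 hv
        obtain ⟨_, ⟨q, rfl⟩, hq⟩ := h0.2 u' v' hu' hv' ⟨_, ⟨a, rfl⟩, ha⟩ ⟨_, ⟨b, rfl⟩, hb⟩
        exact ⟨q, trivial, hq⟩
    exact { isPreirreducible_univ := this.2, toNonempty := this.1.to_subtype.map Subtype.val }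
  haveI : IsIntegral G := isIntegral_of_irreducibleSpace_of_isReduced G
  obtain ⟨l, hl⟩ := exists_lift_closed ι' s (hrange ▸ subset_closure)
  have hlh : l ≫ h = U.ι := by rw [← Category.assoc, hl, hs]
  -- over `U` the closure is the section
  let O := B.hom ⁻¹ᵁ U
  have hr : Set.range l ⊆ Set.range (h ⁻¹ᵁ U).ι := by
    rw [Scheme.Opens.range_ι]
    rintro _ ⟨q, rfl⟩
    show h (l q) ∈ U
    rw [← Scheme.Hom.comp_apply, hlh]
    exact q.2
  let l' : (U : Scheme.{u}) ⟶ (h ⁻¹ᵁ U : G.Opens) := IsOpenImmersion.lift (h ⁻¹ᵁ U).ι l hr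
  have hl' : l' ≫ (h ⁻¹ᵁ U).ι = l := IsOpenImmersion.lift_fac _ _ _
  have hl'h : l' ≫ (h ∣_ U) = 𝟙 _ := by
    rw [← cancel_mono U.ι, Category.assoc, morphismRestrict_ι, reassoc_of% hl', hlh, Category.id_comp]
  haveI : IsClosedImmersion (l' ≫ (h ∣_ U)) := by rw [hl'h]; infer_instance
  haveI : IsClosedImmersion l' := IsClosedImmersion.of_comp l' (h ∣_ U)
  have hsurj : Surjective l' := by
    let sO : (U : Scheme.{u}) ⟶ (O : B.left.Opens) := IsOpenImmersion.lift O.ι s (by
      rw [Scheme.Opens.range_ι]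
      rintro _ ⟨q, rfl⟩
      show B.hom (s q) ∈ U
      rw [← Scheme.Hom.comp_apply, hs]
      exact q.2)
    have hsO : sO ≫ O.ι = s := IsOpenImmersion.lift_fac _ _ _
    have hsOh : sO ≫ (B.hom ∣_ U) = 𝟙 _ := by
      rw [← cancel_mono U.ι, Category.assoc, morphismRestrict_ι, reassoc_of% hsO, hs, Category.id_comp]
    haveI : IsClosedImmersion (sO ≫ (B.hom ∣_ U)) := by rw [hsOh]; infer_instance
    haveI : IsClosedImmersion sO := IsClosedImmersion.of_comp sO (B.hom ∣_ U)
    refine ⟨fun q => ?_⟩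
    have hq1 : ι' q.1 ∈ closure (Set.range s) := by
      show ι' q.1 ∈ (C : Set B.left)
      rw [← hrange]; exact ⟨q.1, rfl⟩
    let p : (O : B.left.Opens) := ⟨ι' q.1, show B.hom (ι' q.1) ∈ U from q.2⟩
    have hp : p ∈ closure (Set.range sO) := by
      rw [O.ι.isOpenEmbedding.isInducing.closure_eq_preimage_closure_image, ← Set.range_comp]
      show O.ι p ∈ closure (Set.range (O.ι ∘ sO))
      rw [show (O.ι ∘ sO : _ → _) = s from funext fun z => by
        show O.ι (sO z) = s z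
        rw [← Scheme.Hom.comp_apply, hsO]]
      exact hq1
    rw [sO.isClosedEmbedding.isClosed_range.closure_eq] at hp
    obtain ⟨z, hz⟩ := hp
    refine ⟨z, Subtype.ext (ι'.isClosedEmbedding.injective ?_)⟩
    show ι' ((h ⁻¹ᵁ U).ι (l' z)) = ι' q.1
    rw [← Scheme.Hom.comp_apply l', hl', ← Scheme.Hom.comp_apply, hl, ← hsO, Scheme.Hom.comp_apply, hz]
    rfl
  haveI : IsIso l' := isIso_of_isClosedImmersion_of_surjective l'
  haveI : IsIso (h ∣_ U) := by
    rw [show h ∣_ U = inv l' from (IsIso.inv_eq_of_hom_inv_id hl'h).symm]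
    infer_instance
  have hWne : genericPoint G ∈ h ⁻¹ᵁ U :=
    ((genericPoint_spec G).mem_open_set_iff (h ⁻¹ᵁ U).isOpen).2
      ⟨l (Classical.arbitrary U), trivial, hr ⟨_, rfl⟩ |> fun ⟨z, hz⟩ => hz ▸ z.2⟩
  have hgen : h (genericPoint G) = genericPoint (Spec R) := by
    refine (Specializes.antisymm ?_ ((genericPoint_spec (Spec R)).specializes (Set.mem_univ _))).eq
    have hgU : genericPoint (Spec R) ∈ U :=
      ((genericPoint_spec (Spec R)).mem_open_set_iff U.isOpen).2 (by simpa using hU)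
    have h1 : h (l ⟨_, hgU⟩) = genericPoint (Spec R) := by
      rw [← Scheme.Hom.comp_apply, hlh]; rfl
    rw [← h1]
    exact ((genericPoint_spec G).specializes (Set.mem_univ _)).map h.continuous
  have hiso : IsIso h := by
    refine AlgSpDec.BiratSp.isIso_of_isIntegralHom_birational h NoetherianSpace.finite_irreducibleComponents
      (RefX2.isNormalScheme_of_regular (fun v => FibIso.isRegularLocalRing_stalk_of_smooth (R := R) (𝟙 _) v)) ?_ ?_
    · rw [genericPoints_eq_singleton, genericPoints_eq_singleton, Set.bijOn_singleton]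
      exact hgen
    · intro w hw
      rw [genericPoints_eq_singleton, Set.mem_singleton_iff] at hw
      subst hw
      exact ((MorphismProperty.isomorphisms _).arrow_mk_iso_iff
        (morphismRestrictStalkMap h U ⟨_, hWne⟩)).1 (inferInstanceAs (IsIso ((h ∣_ U).stalkMap ⟨_, hWne⟩)))
  haveI := hiso
  refine ⟨inv h ≫ ι', by rw [Category.assoc]; exact IsIso.inv_hom_id h, ?_⟩
  rw [← hlh, Category.assoc, IsIso.hom_inv_id_assoc, hl]

/-- A morphism on a dense open of a regular scheme extends uniquely into an abelian scheme. -/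
theorem existsUnique_ext {S : Scheme.{u}} (A : Over S) [GrpObj A] [IsProper A.hom] [Smooth A.hom]
    [GeometricallyConnected A.hom]
    (T : Scheme.{u}) (t : T ⟶ S) [IsLocallyNoetherian T] (hT : ∀ x : T, IsRegularLocalRing (T.presheaf.stalk x))
    (U : T.Opens) (hU : Dense (U : Set T))
    (g : (U : Scheme.{u}) ⟶ A.left) (hg : g ≫ A.hom = U.ι ≫ t) :
    ∃! g' : T ⟶ A.left, g' ≫ A.hom = t ∧ U.ι ≫ g' = g := by
  haveI : GeometricallyReduced A.hom := GrpSchLib.IsogenyFibre.geometricallyReduced_of_smooth' A.hom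
  haveI : GeometricallyIntegral A.hom := AbSchCube.geometricallyIntegral_hom A
  have hdom : ∀ x : T, IsDomain (T.presheaf.stalk x) := fun x => by
    haveI := hT x
    exact (S2821.result (T.presheaf.stalk x)).1
  haveI : IsReduced T := by
    have : ∀ x : T, _root_.IsReduced (T.presheaf.stalk x) := fun x => by haveI := hdom x; infer_instance
    exact isReduced_of_isReduced_stalk T
  have uniq : ∀ {W : Scheme.{u}} (j : W ⟶ T) [IsOpenImmersion j] (a b : W ⟶ A.left),
      a ≫ A.hom = j ≫ t → b ≫ A.hom = j ≫ t → (j ⁻¹ᵁ U).ι ≫ a = (j ⁻¹ᵁ U).ι ≫ b → a = b := by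
    intro W j _ a b ha hb hab
    haveI : IsReduced W := isReduced_of_isOpenImmersion j
    haveI : IsDominant (j ⁻¹ᵁ U).ι := ⟨by
      rw [DenseRange, Scheme.Opens.range_ι]
      exact hU.preimage j.isOpenEmbedding.isOpenMap⟩
    exact ext_of_isDominant_of_isSeparated A.hom (ha.trans hb.symm) _ hab
  have loc : ∀ x : T, ∃ (R : CommRingCat.{u}) (j : Spec R ⟶ T) (_ : IsOpenImmersion j) (φ : Spec R ⟶ A.left),
      x ∈ Set.range j ∧ φ ≫ A.hom = j ≫ t ∧ (j ⁻¹ᵁ U).ι ≫ φ = (j ∣_ U) ≫ g := by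
    intro x
    haveI := hdom x
    obtain ⟨W, hxW, hW⟩ := H23.FinCondSch.exists_integral_nhd x
    obtain ⟨V, hV, hxV, hVW⟩ := exists_isAffineOpen_mem_and_subset (x := x) (U := W) hxW
    haveI : Nonempty (V : Scheme.{u}) := ⟨⟨x, hxV⟩⟩
    haveI : IsIntegral (V : Scheme.{u}) := isIntegral_of_isOpenImmersion (T.homOfLE hVW)
    haveI : Nonempty (V.toScheme) := ⟨⟨x, hxV⟩⟩
    haveI : IsIntegral (Spec Γ(T, V)) := isIntegral_of_isOpenImmersion hV.isoSpec.inv
    haveI : IsDomain Γ(T, V) := by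
      haveI : Nonempty V := ⟨⟨x, hxV⟩⟩
      exact Function.Injective.isDomain (Scheme.ΓSpecIso Γ(T, V)).inv.hom
        (Scheme.ΓSpecIso Γ(T, V)).commRingCatIsoToRingEquiv.symm.injective
    haveI := KRegLib.isRegularRing_sections hT hV
    haveI : IsNoetherianRing Γ(T, V) := IsLocallyNoetherian.component_noetherian ⟨V, hV⟩
    let j : Spec Γ(T, V) ⟶ T := hV.fromSpec
    let B : Over (Spec Γ(T, V)) := (Over.pullback (j ≫ t)).obj A
    letI : GrpObj B := Functor.grpObjObj
    haveI : IsProper B.hom := inferInstanceAs (IsProper (pullback.snd A.hom (j ≫ t)))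
    haveI : Smooth B.hom := inferInstanceAs (Smooth (pullback.snd A.hom (j ≫ t)))
    haveI : GeometricallyIntegral B.hom := inferInstanceAs (GeometricallyIntegral (pullback.snd A.hom (j ≫ t)))
    have hne : ((j ⁻¹ᵁ U : (Spec Γ(T, V)).Opens) : Set (Spec Γ(T, V))).Nonempty := by
      obtain ⟨y, hyj, hyU⟩ := hU.inter_open_nonempty _ j.isOpenEmbedding.isOpen_range
        ⟨_, Classical.arbitrary (Spec Γ(T, V) : Scheme.{u}), rfl⟩
      obtain ⟨z, rfl⟩ := hyj
      exact ⟨z, hyU⟩
    let s : ((j ⁻¹ᵁ U : (Spec Γ(T, V)).Opens) : Scheme.{u}) ⟶ B.left :=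
      pullback.lift ((j ∣_ U) ≫ g) (j ⁻¹ᵁ U).ι (by rw [Category.assoc, hg, morphismRestrict_ι_assoc])
    obtain ⟨s', hs1, hs2⟩ := exists_ext_affine Γ(T, V) B (j ⁻¹ᵁ U) hne s (pullback.lift_snd _ _ _)
    refine ⟨Γ(T, V), j, inferInstance, s' ≫ pullback.fst A.hom (j ≫ t), ?_, ?_, ?_⟩
    · rw [hV.range_fromSpec]; exact hxV
    · rw [Category.assoc, pullback.condition]
      exact (Category.assoc _ _ _).symm.trans ((congrArg (· ≫ (j ≫ t)) hs1).trans (Category.id_comp _))
    · rw [reassoc_of% hs2]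
      exact pullback.lift_fst _ _ _
  choose R j hj φ hx hφ hφU using loc
  let 𝒰 : T.OpenCover := Scheme.Cover.mkOfCovers T (fun x => Spec (R x)) j
    (fun x => ⟨x, hx x⟩) hj
  have key : ∀ (x : T) {Q : Scheme.{u}} (k : Q ⟶ Spec (R x)) (q : Q ⟶ (U : Scheme.{u})),
      q ≫ U.ι = k ≫ j x → k ≫ φ x = q ≫ g := by
    intro x Q k q hq
    have hr : Set.range k ⊆ Set.range ((j x) ⁻¹ᵁ U).ι := by
      rw [Scheme.Opens.range_ι]
      rintro _ ⟨z, rfl⟩
      show j x (k z) ∈ U
      rw [← Scheme.Hom.comp_apply, ← hq, Scheme.Hom.comp_apply]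
      exact (q z).2
    let l := IsOpenImmersion.lift ((j x) ⁻¹ᵁ U).ι k hr
    have hl : l ≫ ((j x) ⁻¹ᵁ U).ι = k := IsOpenImmersion.lift_fac _ _ _
    have hlq : l ≫ ((j x) ∣_ U) = q := by
      rw [← cancel_mono U.ι, Category.assoc, morphismRestrict_ι, reassoc_of% hl, hq]
    rw [← hl, Category.assoc, hφU x, reassoc_of% hlq]
  have hglue : ∀ x y : 𝒰.I₀, pullback.fst (𝒰.f x) (𝒰.f y) ≫ φ x = pullback.snd (𝒰.f x) (𝒰.f y) ≫ φ y := by
    intro x y
    haveI := hj x; haveI := hj y
    let a : pullback (j x) (j y) ⟶ T := pullback.fst (j x) (j y) ≫ j x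
    show pullback.fst (j x) (j y) ≫ φ x = pullback.snd (j x) (j y) ≫ φ y
    refine uniq a _ _ ?_ ?_ ?_
    · rw [Category.assoc, hφ x, Category.assoc]
    · rw [Category.assoc, hφ y, ← pullback.condition_assoc, Category.assoc]
    · have ha : (a ∣_ U) ≫ U.ι = (a ⁻¹ᵁ U).ι ≫ a := morphismRestrict_ι _ _
      rw [← Category.assoc, ← Category.assoc (a ⁻¹ᵁ U).ι,
        key x _ (a ∣_ U) (by rw [ha, Category.assoc]),
        key y _ (a ∣_ U) (by rw [ha, Category.assoc, ← pullback.condition])]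
  let g' : T ⟶ A.left := 𝒰.glueMorphisms φ hglue
  have hg' : ∀ x, j x ≫ g' = φ x := fun x => 𝒰.ι_glueMorphisms φ hglue x
  have h1 : g' ≫ A.hom = t := by
    refine 𝒰.hom_ext _ _ fun x => ?_
    show j x ≫ g' ≫ A.hom = j x ≫ t
    rw [← Category.assoc, hg', hφ]
  have h2 : U.ι ≫ g' = g := by
    refine Scheme.Cover.hom_ext (𝒰.pullback₁ U.ι) _ _ fun x => ?_
    show pullback.fst U.ι (j x) ≫ U.ι ≫ g' = pullback.fst U.ι (j x) ≫ g
    rw [pullback.condition_assoc, hg', key x _ (pullback.fst U.ι (j x)) pullback.condition]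
  refine ⟨g', ⟨h1, h2⟩, fun k ⟨hk1, hk2⟩ => ?_⟩
  haveI : IsDominant U.ι := ⟨by rw [DenseRange, Scheme.Opens.range_ι]; exact hU⟩
  exact ext_of_isDominant_of_isSeparated A.hom (hk1.trans h1.symm) U.ι (hk2.trans h2.symm)

end Groth.Agent.AbSchExt
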